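import Groth.Agent.EGA4Lib.JacTower
import Groth.Agent.EGA4Lib.DerModel
import Mathlib

/-!
# Derivations of finitely generated field extensions with bounded denominators

For a field `L` over a ring `A` a derivation of `L` is bounded if it maps `A` into a finite
`A`-submodule. If `L` is finitely generated over the fraction field of a power series ring in
characteristic `p`, the bounded derivations cut out the `p`-th powers.
-/

set_option autoImplicit false
set_option linter.style.haveILetI false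

namespace Groth.Agent.DerBdd

open Polynomial IntermediateField

universe u

attribute [local instance 2000] Ring.toIntAlgebra

variable (A : Type u) [CommRing A]

/-- A derivation mapping the base into a finite submodule. -/
def Bd {L : Type u} [CommRing L] [Algebra A L] (D : Derivation ℤ L L) : Prop :=
  ∃ T : Submodule A L, T.FG ∧ ∀ a : A, D (algebraMap A L a) ∈ T

/-- The bounded derivations cut out `p`-th powers. -/
def Kill (p : ℕ) (L : Type u) [Field L] [Algebra A L] : Prop :=
  ∀ x : L, (∀ D : Derivation ℤ L L, Bd A D → D x = 0) → ∃ y : L, y ^ p = x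

variable {A}

section closure

variable {L : Type u} [CommRing L] [Algebra A L]

lemma Bd.exists_image {D : Derivation ℤ L L} (hD : Bd A D) {T : Submodule A L} (hT : T.FG) :
    ∃ T' : Submodule A L, T'.FG ∧ ∀ x ∈ T, D x ∈ T' := by
  classical
  obtain ⟨U, hU, hUD⟩ := hD
  obtain ⟨s, rfl⟩ := hT
  refine ⟨U * Submodule.span A (s : Set L) ⊔ Submodule.span A (s.image D : Set L),
    (hU.mul ⟨s, rfl⟩).sup ⟨s.image D, rfl⟩, fun x hx => ?_⟩
  induction hx using Submodule.span_induction with
  | mem y hy =>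
    exact Submodule.mem_sup_right (Submodule.subset_span (Finset.mem_coe.2 (Finset.mem_image_of_mem D hy)))
  | zero => rw [map_zero]; exact zero_mem _
  | add y z _ _ hy hz => rw [map_add]; exact add_mem hy hz
  | smul a y hy ih =>
    rw [Algebra.smul_def, D.leibniz, smul_eq_mul, smul_eq_mul, ← Algebra.smul_def]
    refine add_mem (Submodule.smul_mem _ a ih) (Submodule.mem_sup_left ?_)
    rw [mul_comm y]
    exact Submodule.mul_mem_mul (hUD a) hy

lemma Bd.add {D D' : Derivation ℤ L L} (h : Bd A D) (h' : Bd A D') : Bd A (D + D') := by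
  obtain ⟨T, hT, hTD⟩ := h
  obtain ⟨T', hT', hTD'⟩ := h'
  exact ⟨T ⊔ T', hT.sup hT', fun a => Submodule.add_mem_sup (hTD a) (hTD' a)⟩

lemma Bd.smul (c : L) {D : Derivation ℤ L L} (h : Bd A D) : Bd A (c • D) := by
  obtain ⟨T, hT, hTD⟩ := h
  refine ⟨T.map (LinearMap.mulLeft A c), hT.map _, fun a => ?_⟩
  exact ⟨_, hTD a, rfl⟩

lemma Bd.bracket {D D' : Derivation ℤ L L} (h : Bd A D) (h' : Bd A D') : Bd A ⁅D, D'⁆ := by
  obtain ⟨T, hT, hTD⟩ := id h
  obtain ⟨T', hT', hTD'⟩ := id h'
  obtain ⟨U, hU, hUD⟩ := h.exists_image hT'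
  obtain ⟨U', hU', hUD'⟩ := h'.exists_image hT
  refine ⟨U ⊔ U', hU.sup hU', fun a => ?_⟩
  rw [Derivation.commutator_apply]
  exact sub_mem (Submodule.mem_sup_left (hUD _ (hTD' a))) (Submodule.mem_sup_right (hUD' _ (hTD a)))

lemma Bd.iterPow {p : ℕ} (hp : 1 ≤ p) {D Dp : Derivation ℤ L L} (hDp : ∀ b, Dp b = D^[p] b)
    (h : Bd A D) : Bd A Dp := by
  have key : ∀ n : ℕ, ∃ T : Submodule A L, T.FG ∧ ∀ a : A, D^[n + 1] (algebraMap A L a) ∈ T := by
    intro n
    induction n with
    | zero => exact h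
    | succ n ih =>
      obtain ⟨T, hT, hTD⟩ := ih
      obtain ⟨U, hU, hUD⟩ := h.exists_image hT
      exact ⟨U, hU, fun a => by rw [Function.iterate_succ_apply']; exact hUD _ (hTD a)⟩
  obtain ⟨T, hT, hTD⟩ := key (p - 1)
  refine ⟨T, hT, fun a => ?_⟩
  rw [hDp]
  rw [Nat.sub_add_cancel hp] at hTD
  exact hTD a

lemma bd_of_extends {M : Type u} [CommRing M] [Algebra A M] [Algebra M L] [IsScalarTower A M L]
    {D₀ : Derivation ℤ M M} (h : Bd A D₀) {D : Derivation ℤ L L}
    (hD : ∀ m, D (algebraMap M L m) = algebraMap M L (D₀ m)) : Bd A D := by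
  obtain ⟨T, hT, hTD⟩ := h
  refine ⟨T.map (IsScalarTower.toAlgHom A M L).toLinearMap, hT.map _, fun a => ?_⟩
  rw [IsScalarTower.algebraMap_apply A M L, hD]
  exact ⟨_, hTD a, rfl⟩

lemma bd_of_eq_zero {D : Derivation ℤ L L} (h : ∀ a : A, D (algebraMap A L a) = 0) : Bd A D :=
  ⟨⊥, Submodule.fg_bot, fun a => by rw [h a]; exact zero_mem _⟩

end closure

section poly

variable {M L : Type u} [CommRing M] [CommRing L] [Algebra M L]

lemma derivation_aeval {D₀ : Derivation ℤ M M} {D : Derivation ℤ L L}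
    (hD : ∀ m, D (algebraMap M L m) = algebraMap M L (D₀ m)) (α : L) (q : M[X]) :
    D (aeval α q) = aeval α (EGA4Lib.DerKernel.polyDer D₀ 0 q) + aeval α (derivative q) * D α := by
  induction q using Polynomial.induction_on with
  | C b => simp [EGA4Lib.DerKernel.polyDer_C, hD]
  | add q r hq hr => simp only [map_add, hq, hr]; ring
  | monomial n b _ =>
    simp [Derivation.leibniz, Derivation.leibniz_pow, EGA4Lib.DerKernel.polyDer_C,
      EGA4Lib.DerKernel.polyDer_X, hD]
    ring

lemma natDegree_polyDer_le (D₀ : Derivation ℤ M M) (q : M[X]) :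
    (EGA4Lib.DerKernel.polyDer D₀ 0 q).natDegree ≤ q.natDegree := by
  refine natDegree_le_iff_coeff_eq_zero.mpr fun i hi => ?_
  rw [EGA4Lib.Jac.coeff_polyDer, coeff_eq_zero_of_natDegree_lt hi, map_zero]

lemma polyDer_zero_zero (q : M[X]) :
    EGA4Lib.DerKernel.polyDer (0 : Derivation ℤ M M) 0 q = 0 := by
  ext i
  rw [EGA4Lib.Jac.coeff_polyDer, Derivation.coe_zero, Pi.zero_apply, coeff_zero]

end poly

section steps

variable {p : ℕ} [Fact p.Prime] {M L : Type u} [Field M] [Field L] [Algebra A M] [Algebra A L]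
  [Algebra M L] [IsScalarTower A M L]

omit [Algebra A M] [Algebra A L] [IsScalarTower A M L] [Fact p.Prime] in
/-- Extension of a derivation along a simple algebraic extension. -/
theorem exists_extension (α : L) (hα : IsIntegral M α) (hgen : ∀ x : L, ∃ q : M[X], x = aeval α q)
    (D₀ : Derivation ℤ M M) (v : L)
    (hv : aeval α (EGA4Lib.DerKernel.polyDer D₀ 0 (minpoly M α)) +
      aeval α (derivative (minpoly M α)) * v = 0) :
    ∃ D : Derivation ℤ L L, (∀ m, D (algebraMap M L m) = algebraMap M L (D₀ m)) ∧ D α = v := by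
  let g := minpoly M α
  obtain ⟨w, rfl⟩ := hgen v
  let θ : M[X] →+* L := (aeval α : M[X] →ₐ[M] L).toRingHom
  have hθ : Function.Surjective θ := fun x => by
    obtain ⟨q, hq⟩ := hgen x
    exact ⟨q, hq.symm⟩
  have hd : ∀ x : M[X], θ.toIntAlgHom x = 0 →
      θ.toIntAlgHom (EGA4Lib.DerKernel.polyDer D₀ w x) = 0 := by
    intro x hx
    change aeval α x = 0 at hx
    change aeval α (EGA4Lib.DerKernel.polyDer D₀ w x) = 0
    obtain ⟨r, rfl⟩ := minpoly.dvd M α hx
    rw [Derivation.leibniz, map_add, smul_eq_mul, smul_eq_mul, map_mul, map_mul, minpoly.aeval,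
      zero_mul, zero_add, EGA4Lib.DerKernel.polyDer_eq, map_add, map_mul, mul_comm (aeval α w), hv,
      mul_zero]
  refine ⟨Derivation.liftOfSurjective (f := θ.toIntAlgHom) hθ
    (d := EGA4Lib.DerKernel.polyDer D₀ w) hd, fun m => ?_, ?_⟩
  · have h := Derivation.liftOfSurjective_apply (f := θ.toIntAlgHom) hθ
      (d := EGA4Lib.DerKernel.polyDer D₀ w) hd (C m)
    simp only [RingHom.toIntAlgHom_apply, EGA4Lib.DerKernel.polyDer_C] at h
    change Derivation.liftOfSurjective _ _ (aeval α (C m)) = aeval α (C (D₀ m)) at h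
    rw [aeval_C, aeval_C] at h
    exact h
  · have h := Derivation.liftOfSurjective_apply (f := θ.toIntAlgHom) hθ
      (d := EGA4Lib.DerKernel.polyDer D₀ w) hd (X : M[X])
    simp only [RingHom.toIntAlgHom_apply, EGA4Lib.DerKernel.polyDer_X] at h
    change Derivation.liftOfSurjective _ _ (aeval α (X : M[X])) = aeval α w at h
    rw [aeval_X] at h
    exact h

omit [Fact p.Prime] in
lemma eq_zero_of_aeval_of_natDegree_lt {β : L} {q : M[X]} (h : aeval β q = 0)
    (hdeg : q.natDegree < (minpoly M β).natDegree) : q = 0 := by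
  by_contra hq
  exact (Nat.not_le.mpr hdeg) (natDegree_le_of_dvd (minpoly.dvd M β h) hq)

variable [CharP L p] [CharP M p]

omit [Algebra A L] [IsScalarTower A M L] in
/-- The separable step. -/
theorem kill_separable [Algebra A L] [IsScalarTower A M L] (α : L) (hsep : IsSeparable M α)
    (hgen : ∀ x : L, ∃ q : M[X], x = aeval (α ^ p) q) (h : Kill A p M) : Kill A p L := by
  intro x hx
  have hα : IsIntegral M α := hsep.isIntegral
  have hgenα : ∀ y : L, ∃ q : M[X], y = aeval α q := fun y => by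
    obtain ⟨q, hq⟩ := hgen y
    exact ⟨expand M p q, by rw [expand_aeval]; exact hq⟩
  have hβ : IsIntegral M (α ^ p) := hα.pow p
  have hpos : 0 < (minpoly M (α ^ p)).natDegree := minpoly.natDegree_pos hβ
  obtain ⟨q, rfl⟩ := hgen x
  rw [← aeval_modByMonic_eq_self_of_root (minpoly.aeval M (α ^ p))] at hx ⊢
  set r := q %ₘ minpoly M (α ^ p) with hr
  have hdeg : r.natDegree < (minpoly M (α ^ p)).natDegree :=
    natDegree_modByMonic_lt q (minpoly.monic hβ) (fun h1 => by simp [h1] at hpos)
  have hcoef : ∀ i, ∃ y : M, y ^ p = r.coeff i := fun i => h _ fun D₀ hD₀ => by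
    have hne : aeval α (derivative (minpoly M α)) ≠ 0 := hsep.aeval_derivative_ne_zero (minpoly.aeval M α)
    obtain ⟨D, hD, -⟩ := exists_extension α hα hgenα D₀
      (-(aeval α (EGA4Lib.DerKernel.polyDer D₀ 0 (minpoly M α))) / aeval α (derivative (minpoly M α)))
      (by rw [mul_div_cancel₀ _ hne, add_neg_cancel])
    have h1 := hx D (bd_of_extends hD₀ hD)
    have hDp : D (α ^ p) = 0 := EGA4Lib.DerKernel.derivation_pow_char p D α
    rw [derivation_aeval hD, hDp, mul_zero, add_zero] at h1
    have h2 := eq_zero_of_aeval_of_natDegree_lt h1 ((natDegree_polyDer_le D₀ r).trans_lt hdeg)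
    rw [← EGA4Lib.Jac.coeff_polyDer D₀ r i, h2, coeff_zero]
  choose y hy using hcoef
  refine ⟨∑ i ∈ Finset.range (r.natDegree + 1), algebraMap M L (y i) * α ^ i, ?_⟩
  rw [sum_pow_char, aeval_eq_sum_range]
  refine Finset.sum_congr rfl fun i _ => ?_
  rw [mul_pow, ← map_pow, hy, Algebra.smul_def, ← pow_mul, ← pow_mul, mul_comm p i]

omit [Algebra A L] [IsScalarTower A M L] in
/-- The step adjoining a `p`-th root. -/
theorem kill_pthRoot [Algebra A L] [IsScalarTower A M L] (α : L) (f : M) (hα : α ^ p = algebraMap M L f)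
    (hgen : ∀ x : L, ∃ q : M[X], x = aeval α q) (hf : ∀ y : M, y ^ p ≠ f) (h : Kill A p M) :
    Kill A p L := by
  intro x hx
  have hp : p.Prime := Fact.out
  have hmonic : (X ^ p - C f : M[X]).Monic := monic_X_pow_sub_C f hp.ne_zero
  have hroot : aeval α (X ^ p - C f : M[X]) = 0 := by simp [hα]
  have hint : IsIntegral M α := ⟨_, hmonic, hroot⟩
  have hmin : minpoly M α = X ^ p - C f :=
    (minpoly.eq_of_irreducible_of_monic (X_pow_sub_C_irreducible_of_prime hp hf) hroot hmonic).symm
  have hdmin : derivative (minpoly M α) = 0 := by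
    rw [hmin]; simp [derivative_X_pow]
  have hpd : ∀ D₀ : Derivation ℤ M M,
      aeval α (EGA4Lib.DerKernel.polyDer D₀ 0 (minpoly M α)) = - algebraMap M L (D₀ f) := fun D₀ => by
    rw [hmin, map_sub, Derivation.leibniz_pow, EGA4Lib.DerKernel.polyDer_X, EGA4Lib.DerKernel.polyDer_C]
    simp
  have hext : ∀ (D₀ : Derivation ℤ M M) (v : L), D₀ f = 0 →
      ∃ D : Derivation ℤ L L, (∀ m, D (algebraMap M L m) = algebraMap M L (D₀ m)) ∧ D α = v :=
    fun D₀ v hD₀ => exists_extension α hint hgen D₀ v (by rw [hpd, hD₀, hdmin]; simp)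
  obtain ⟨q, rfl⟩ := hgen x
  rw [← aeval_modByMonic_eq_self_of_root (minpoly.aeval M α)] at hx ⊢
  set r := q %ₘ minpoly M α
  have hmd : (minpoly M α).natDegree = p := by rw [hmin, natDegree_X_pow_sub_C]
  have hdeg : r.natDegree < p :=
    hmd ▸ natDegree_modByMonic_lt q (minpoly.monic hint) (fun h1 => by
      rw [h1, natDegree_one] at hmd; exact hp.ne_zero hmd.symm)
  -- only the constant term survives
  obtain ⟨D₁, hD₁, hD₁α⟩ := hext 0 1 rfl
  have hbd₁ : Bd A D₁ := bd_of_eq_zero fun a => by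
    rw [IsScalarTower.algebraMap_apply A M L, hD₁]
    simp
  have h1 := hx D₁ hbd₁
  rw [derivation_aeval hD₁, polyDer_zero_zero, map_zero, zero_add, hD₁α, mul_one] at h1
  have h2 : derivative r = 0 := eq_zero_of_aeval_of_natDegree_lt h1 (by
    rw [hmd]; exact (natDegree_derivative_le r).trans_lt (by omega))
  have hr0 : r = C (r.coeff 0) := by
    ext i
    cases i with
    | zero => simp
    | succ i =>
      rw [coeff_C_succ]
      by_cases hi : i + 1 < p
      · have h3 : (derivative r).coeff i = 0 := by rw [h2, coeff_zero]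
        rw [coeff_derivative] at h3
        refine (mul_eq_zero.mp h3).resolve_right ?_
        rw [← Nat.cast_add_one, CharP.cast_eq_zero_iff M p]
        exact fun hd => absurd (Nat.le_of_dvd (by omega) hd) (by omega)
      · exact coeff_eq_zero_of_natDegree_lt (by omega)
  set c := r.coeff 0
  rw [hr0, aeval_C] at hx ⊢
  have hc : ∀ D₀ : Derivation ℤ M M, Bd A D₀ → D₀ f = 0 → D₀ c = 0 := fun D₀ hD₀ hD₀f => by
    obtain ⟨D, hD, -⟩ := hext D₀ 0 hD₀f
    have := hx D (bd_of_extends hD₀ hD)
    rw [hD] at this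
    exact (map_eq_zero _).mp this
  obtain ⟨E₀, hE₀, hE₀f⟩ : ∃ E : Derivation ℤ M M, Bd A E ∧ E f ≠ 0 := by
    by_contra hcon
    push_neg at hcon
    obtain ⟨y, hy⟩ := h f hcon
    exact hf y hy
  refine EGA4Lib.Jac.exists_pow_of_forall' (algebraMap M L) (fun D => Bd A D) (fun D _ z hz => ?_)
    (fun D D' a b hD hD' => (hD.smul a).add (hD'.smul b)) (fun D D' hD hD' => hD.bracket hD')
    (fun D Dp hD hDp => hD.iterPow hp.one_le hDp) (fun z hz => ?_) ((E₀ f)⁻¹ • E₀) (hE₀.smul _) f 1
    (by simp [hE₀f]) (fun D => D.map_one_eq_zero) (by simp) ⟨1, by simp⟩ ⟨α, hα⟩ c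
    (fun D hD hDf => by rw [hc D hD ((map_eq_zero _).mp hDf), map_zero])
  · rw [(map_eq_zero _).mp hz, map_zero, map_zero]
  · obtain ⟨y, hy⟩ := h z fun D hD => (map_eq_zero _).mp (hz D hD)
    exact ⟨algebraMap M L y, by rw [← map_pow, hy]⟩

omit [Algebra A L] [IsScalarTower A M L] in
/-- The transcendental step. -/
theorem kill_transcendental [Algebra A L] [IsScalarTower A M L] (t : L)
    (hinj : Function.Injective (aeval t : M[X] →ₐ[M] L))
    (hgen : ∀ x : L, ∃ g h : M[X], x = aeval t g / aeval t h) (h : Kill A p M) : Kill A p L := by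
  intro x hx
  have hp : p.Prime := Fact.out
  letI : Algebra M[X] L := (aeval t : M[X] →ₐ[M] L).toRingHom.toAlgebra
  have halg : ∀ g : M[X], algebraMap M[X] L g = aeval t g := fun _ => rfl
  haveI : FaithfulSMul M[X] L := (faithfulSMul_iff_algebraMap_injective _ _).2 hinj
  haveI : IsFractionRing M[X] L := IsFractionRing.of_field M[X] L fun y => by
    obtain ⟨g, k, hk⟩ := hgen y
    exact ⟨g, k, hk⟩
  have hext : ∀ (D₀ : Derivation ℤ M M) (w : M[X]), ∃ D : Derivation ℤ L L,
      (∀ m, D (algebraMap M L m) = algebraMap M L (D₀ m)) ∧ D t = aeval t w := fun D₀ w => by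
    obtain ⟨E, hE⟩ := EGA41Lib.NagataCrit.exists_extension_localization (nonZeroDivisors M[X]) (S := L)
      (K := L) ((Algebra.linearMap M[X] L).compDer (EGA4Lib.DerKernel.polyDer D₀ w))
    refine ⟨E, fun m => ?_, ?_⟩
    · have := hE (C m)
      rw [halg, aeval_C] at this
      rw [this]
      change aeval t (EGA4Lib.DerKernel.polyDer D₀ w (C m)) = _
      rw [EGA4Lib.DerKernel.polyDer_C, aeval_C]
    · have := hE X
      rw [halg, aeval_X] at this
      rw [this]
      change aeval t (EGA4Lib.DerKernel.polyDer D₀ w X) = _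
      rw [EGA4Lib.DerKernel.polyDer_X]
  obtain ⟨g, k, rfl⟩ := hgen x
  by_cases hk : aeval t k = 0
  · exact ⟨0, by rw [hk, div_zero, zero_pow hp.ne_zero]⟩
  set g' := g * k ^ (p - 1)
  have hg' : aeval t g' = aeval t g / aeval t k * aeval t k ^ p := by
    simp only [g', map_mul, map_pow]
    rw [← pow_sub_one_mul hp.ne_zero (aeval t k)]
    field_simp
  have hzero : ∀ D : Derivation ℤ L L, Bd A D → D (aeval t g') = 0 := fun D hD => by
    rw [hg', mul_comm, EGA4Lib.DerKernel.derivation_pow_mul p D, hx D hD, mul_zero]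
  have hcoef : ∀ i, ∃ y : M, y ^ p = g'.coeff i := fun i => h _ fun D₀ hD₀ => by
    obtain ⟨D, hD, hDt⟩ := hext D₀ 0
    have h1 := hzero D (bd_of_extends hD₀ hD)
    rw [derivation_aeval hD, hDt, map_zero, mul_zero, add_zero] at h1
    rw [← EGA4Lib.Jac.coeff_polyDer D₀ g' i, (map_eq_zero_iff _ hinj).mp h1, coeff_zero]
  have hder : derivative g' = 0 := by
    obtain ⟨D, hD, hDt⟩ := hext 0 1
    have h1 := hzero D (bd_of_eq_zero fun a => by rw [IsScalarTower.algebraMap_apply A M L, hD]; simp)
    rw [derivation_aeval hD, polyDer_zero_zero, map_zero, zero_add, hDt, map_one, mul_one] at h1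
    exact (map_eq_zero_iff _ hinj).mp h1
  obtain ⟨y, hy⟩ : ∃ y : M[X], y ^ p = g' := by
    have he : expand M p (contract p g') = g' := expand_contract p hder hp.ne_zero
    choose z hz using hcoef
    refine ⟨∑ i ∈ Finset.range (g'.natDegree + 1), C (z (i * p)) * X ^ i, ?_⟩
    rw [sum_pow_char]
    conv_rhs => rw [← he, (contract p g').as_sum_range_C_mul_X_pow' (n := g'.natDegree + 1) (by
      have := congrArg natDegree he
      rw [natDegree_expand] at this
      have : (contract p g').natDegree ≤ g'.natDegree := this ▸ Nat.le_mul_of_pos_right _ hp.pos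
      omega)]
    rw [map_sum]
    refine Finset.sum_congr rfl fun i _ => ?_
    rw [mul_pow, ← map_pow, hz, map_mul, expand_C, map_pow, expand_X, coeff_contract hp.ne_zero,
      ← pow_mul, ← pow_mul, mul_comm i p]
  refine ⟨aeval t y / aeval t k, ?_⟩
  rw [div_pow, ← map_pow, hy, hg']
  field_simp

end steps

/-- The base: the fraction field of a ring with enough derivations. -/
theorem kill_of_pker {p : ℕ} [Fact p.Prime] {K : Type u} [Field K] [Algebra A K] [IsFractionRing A K]
    [CharP K p] (h : EGA4Lib.DerKernel.PKer p A K) : Kill A p K := by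
  intro x hx
  have hp : p.Prime := Fact.out
  haveI : Nontrivial A := (algebraMap A K).domain_nontrivial
  obtain ⟨a, b, hb, rfl⟩ := IsFractionRing.div_surjective (A := A) x
  have hb0 : algebraMap A K b ≠ 0 :=
    (map_ne_zero_iff _ (IsFractionRing.injective A K)).2 (nonZeroDivisors.ne_zero hb)
  obtain ⟨y, hy⟩ := h (a * b ^ (p - 1)) fun d => by
    obtain ⟨E, hE⟩ := EGA41Lib.NagataCrit.exists_extension_localization (nonZeroDivisors A) (S := K)
      (K := K) ((Algebra.linearMap A K).compDer d)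
    have hbd : Bd A E := ⟨Submodule.span A {1}, Submodule.fg_span_singleton _, fun c => by
      rw [hE, Submodule.mem_span_singleton]
      exact ⟨d c, (Algebra.algebraMap_eq_smul_one _).symm⟩⟩
    have h1 : algebraMap A K (a * b ^ (p - 1)) =
        algebraMap A K b ^ p * (algebraMap A K a / algebraMap A K b) := by
      rw [map_mul, map_pow, ← pow_sub_one_mul hp.ne_zero (algebraMap A K b)]
      field_simp
    have h2 : E (algebraMap A K (a * b ^ (p - 1))) = 0 := by
      rw [h1, EGA4Lib.DerKernel.derivation_pow_mul p E, hx E hbd, mul_zero]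
    rw [hE] at h2
    exact (map_eq_zero_iff _ (IsFractionRing.injective A K)).mp h2
  refine ⟨y / algebraMap A K b, ?_⟩
  rw [div_pow, hy, map_mul, map_pow, ← pow_sub_one_mul hp.ne_zero (algebraMap A K b)]
  field_simp

end Groth.Agent.DerBdd
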