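import Groth.Agent.DerBdd.Basic
import Groth.Agent.EGA4Lib.CompleteJ2
import Groth.Agent.Nagata.Normalization
import Groth.Agent.Adic.Basic

/-!
# Derivations of finitely generated algebras over complete local rings
-/

set_option autoImplicit false
set_option linter.style.haveILetI false

namespace Groth.Agent.DerBdd

open Polynomial IntermediateField IsLocalRing

universe u

attribute [local instance 2000] Ring.toIntAlgebra

variable {A : Type u} [CommRing A] {p : ℕ} [Fact p.Prime]

theorem Kill.of_algEquiv {L L' : Type u} [Field L] [Field L'] [Algebra A L] [Algebra A L']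
    (e : L ≃ₐ[A] L') (h : Kill A p L) : Kill A p L' := by
  intro x hx
  obtain ⟨y, hy⟩ := h (e.symm x) fun D ⟨T, hT, hTD⟩ => by
    let D' : Derivation ℤ L' L' := Derivation.mk'
      ((e.toRingEquiv.toAddMonoidHom.comp (D.toLinearMap.toAddMonoidHom.comp
        e.symm.toRingEquiv.toAddMonoidHom)).toIntLinearMap) fun a b => by
      change e (D (e.symm (a * b))) = a * e (D (e.symm b)) + b * e (D (e.symm a))
      rw [map_mul, D.leibniz, map_add, smul_eq_mul, smul_eq_mul, map_mul, map_mul,
        e.apply_symm_apply, e.apply_symm_apply]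
    have hbd : Bd A D' := ⟨T.map e.toLinearMap, hT.map _, fun a =>
      ⟨_, hTD a, by
        change e (D (algebraMap A L a)) = e (D (e.symm (algebraMap A L' a)))
        rw [e.symm.commutes]⟩⟩
    have h1 : e (D (e.symm x)) = 0 := hx D' hbd
    exact (map_eq_zero_iff e e.injective).mp h1
  exact ⟨e y, by rw [← map_pow, hy, e.apply_symm_apply]⟩

variable {K E : Type u} [Field K] [Field E] [Algebra A K] [Algebra A E] [Algebra K E]
  [IsScalarTower A K E] [CharP E p]

omit [Fact p.Prime] in
lemma charP_intermediateField (M : IntermediateField K E) : CharP M p :=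
  ((algebraMap M E).charP_iff (algebraMap M E).injective p).mpr inferInstance

theorem kill_congr {M N : IntermediateField K E} (h : M = N) (hM : Kill A p M) : Kill A p N :=
  hM.of_algEquiv ((IntermediateField.equivOfEq h).restrictScalars A)

lemma exists_aeval_div (M : IntermediateField K E) (α : E) (x : M⟮α⟯) :
    ∃ g h : M[X], x = aeval (AdjoinSimple.gen M α) g / aeval (AdjoinSimple.gen M α) h := by
  obtain ⟨g, h, hgh⟩ := (IntermediateField.mem_adjoin_simple_iff M (x : E)).mp x.2
  refine ⟨g, h, Subtype.ext ?_⟩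
  have key : ∀ q : M[X], ((aeval (AdjoinSimple.gen M α) q : M⟮α⟯) : E) = aeval α q := fun q =>
    (aeval_algHom_apply (IntermediateField.val M⟮α⟯) (AdjoinSimple.gen M α) q).symm
  rw [IntermediateField.coe_div, key, key]
  exact hgh

lemma exists_aeval (M : IntermediateField K E) (α : E) (halg : IsAlgebraic M α) (β : E)
    (hβ : M⟮β⟯ = M⟮α⟯) (b : M⟮α⟯) (hb : (b : E) = β) (x : M⟮α⟯) :
    ∃ q : M[X], x = aeval b q := by
  have hx : (x : E) ∈ M⟮β⟯.toSubalgebra := by rw [hβ]; exact x.2
  have halgβ : IsAlgebraic M β := by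
    haveI : FiniteDimensional M M⟮α⟯ := adjoin.finiteDimensional halg.isIntegral
    rw [← hb]
    exact (Algebra.IsAlgebraic.isAlgebraic b).algHom (IntermediateField.val M⟮α⟯)
  rw [adjoin_simple_toSubalgebra_of_isAlgebraic halgβ, Algebra.adjoin_singleton_eq_range_aeval] at hx
  obtain ⟨q, hq⟩ := hx
  refine ⟨q, Subtype.ext ?_⟩
  have h1 := aeval_algHom_apply (IntermediateField.val M⟮α⟯) b q
  rw [show (IntermediateField.val M⟮α⟯) b = β from hb] at h1
  exact hq.symm.trans h1

/-- The structure of `A`-algebra on a simple extension inside `E`. -/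
noncomputable local instance algebraAdjoinSimple (M : IntermediateField K E) (α : E) : Algebra A M⟮α⟯ :=
  inferInstanceAs (Algebra A (M⟮α⟯.restrictScalars K))

local instance isScalarTower_adjoinSimple (M : IntermediateField K E) (α : E) : IsScalarTower A M M⟮α⟯ :=
  IsScalarTower.of_algebraMap_eq fun _ => Subtype.ext rfl

theorem kill_simple_of_pow_separable (e : ℕ) :
    ∀ (M : IntermediateField K E) (α : E), IsSeparable M (α ^ p ^ e) → Kill A p M →
      Kill A p (M⟮α⟯.restrictScalars K) := by
  induction e with
  | zero =>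
    intro M α hsep h
    rw [pow_zero, pow_one] at hsep
    haveI := charP_intermediateField (p := p) M
    haveI := charP_intermediateField (p := p) (M⟮α⟯.restrictScalars K)
    haveI : CharP M⟮α⟯ p := charP_intermediateField (p := p) (M⟮α⟯.restrictScalars K)
    haveI : ExpChar M p := ExpChar.prime (Fact.out : p.Prime)
    haveI : Algebra.IsSeparable M M⟮α⟯ := (isSeparable_adjoin_simple_iff_isSeparable M E).mpr hsep
    have hpow : M⟮α⟯ = M⟮α ^ p⟯ := by
      have := adjoin_eq_adjoin_pow_expChar_pow_of_isSeparable M E {α} p 1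
      simpa using this
    have h1 : Kill A p M⟮α⟯ := kill_separable (AdjoinSimple.gen M α)
      (by
        have : IsSeparable M (AdjoinSimple.gen M α) := Algebra.IsSeparable.isSeparable M _
        exact this)
      (exists_aeval M α hsep.isIntegral.isAlgebraic (α ^ p) hpow.symm
        ((AdjoinSimple.gen M α) ^ p) (by simp)) h
    exact h1.of_algEquiv (AlgEquiv.refl : M⟮α⟯ ≃ₐ[A] M⟮α⟯)
  | succ e ih =>
    intro M α hsep h
    have hsep' : IsSeparable M ((α ^ p) ^ p ^ e) := by rwa [← pow_mul, ← pow_succ']
    have h1 := ih M (α ^ p) hsep' h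
    let M' : IntermediateField K E := M⟮α ^ p⟯.restrictScalars K
    have hMM' : M ≤ M' := fun x hx => by
      exact (M⟮α ^ p⟯).algebraMap_mem (⟨x, hx⟩ : M)
    have hαp : α ^ p ∈ M' := mem_adjoin_simple_self M (α ^ p)
    by_cases hα : α ∈ M'
    · refine kill_congr (le_antisymm ?_ ?_) h1
      · exact fun x hx => (adjoin_simple_le_iff.mpr (pow_mem (mem_adjoin_simple_self M α) p) :
          M⟮α ^ p⟯ ≤ M⟮α⟯) hx
      · exact fun x hx => (adjoin_simple_le_iff.mpr hα : M⟮α⟯ ≤ M⟮α ^ p⟯) hx
    · haveI := charP_intermediateField (p := p) M'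
      haveI : CharP M'⟮α⟯ p := charP_intermediateField (p := p) (M'⟮α⟯.restrictScalars K)
      have halg : IsAlgebraic M' α := by
        refine IsIntegral.isAlgebraic ⟨X ^ p - C (⟨α ^ p, hαp⟩ : M'),
          monic_X_pow_sub_C _ (Fact.out : p.Prime).ne_zero, ?_⟩
        simp
      have h2 : Kill A p M'⟮α⟯ := kill_pthRoot (AdjoinSimple.gen M' α) (⟨α ^ p, hαp⟩ : M')
        (Subtype.ext (by simp))
        (exists_aeval M' α halg α rfl _ (by simp))
        (fun y hy => hα (by
          have h3 : (y : E) ^ p = α ^ p := congrArg Subtype.val hy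
          have h4 : (y : E) = α := frobenius_inj E p h3
          exact h4 ▸ y.2)) h1
      have h3 : Kill A p (M'⟮α⟯.restrictScalars K) := h2.of_algEquiv (AlgEquiv.refl : M'⟮α⟯ ≃ₐ[A] M'⟮α⟯)
      refine kill_congr (le_antisymm ?_ ?_) h3
      · intro x hx
        have hle : (M'⟮α⟯.restrictScalars K) ≤ (M⟮α⟯.restrictScalars K) := by
          have : adjoin K ((M' : Set E) ∪ {α}) ≤ M⟮α⟯.restrictScalars K := by
            rw [adjoin_le_iff, Set.union_subset_iff, Set.singleton_subset_iff]
            refine ⟨?_, mem_adjoin_simple_self M α⟩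
            have : M' ≤ M⟮α⟯.restrictScalars K := fun x hx =>
              (adjoin_simple_le_iff.mpr (pow_mem (mem_adjoin_simple_self M α) p) : M⟮α ^ p⟯ ≤ M⟮α⟯) hx
            exact this
          rwa [← restrictScalars_adjoin] at this
        exact hle hx
      · have : adjoin K ((M : Set E) ∪ {α}) ≤ M'⟮α⟯.restrictScalars K := by
          rw [adjoin_le_iff, Set.union_subset_iff, Set.singleton_subset_iff]
          exact ⟨fun x hx => (M'⟮α⟯).algebraMap_mem (⟨x, hMM' hx⟩ : M'), mem_adjoin_simple_self M' α⟩
        rwa [← restrictScalars_adjoin] at this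

theorem kill_simple (M : IntermediateField K E) (α : E) (h : Kill A p M) :
    Kill A p (M⟮α⟯.restrictScalars K) := by
  haveI := charP_intermediateField (p := p) M
  by_cases halg : IsAlgebraic M α
  · haveI : ExpChar M p := ExpChar.prime (Fact.out : p.Prime)
    obtain ⟨g, hg, m, hm⟩ := (minpoly.irreducible halg.isIntegral).hasSeparableContraction p
    refine kill_simple_of_pow_separable m M α (Polynomial.Separable.of_dvd hg (minpoly.dvd M _ ?_)) h
    rw [← expand_aeval, hm, minpoly.aeval]
  · haveI : CharP M⟮α⟯ p := charP_intermediateField (p := p) (M⟮α⟯.restrictScalars K)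
    have hinj : Function.Injective (aeval (AdjoinSimple.gen M α) : M[X] →ₐ[M] M⟮α⟯) := by
      refine (injective_iff_map_eq_zero _).mpr fun q hq => ?_
      by_contra hne
      refine halg ⟨q, hne, ?_⟩
      have := aeval_algHom_apply (IntermediateField.val M⟮α⟯) (AdjoinSimple.gen M α) q
      rw [hq, map_zero] at this
      exact this
    have h1 : Kill A p M⟮α⟯ :=
      kill_transcendental (AdjoinSimple.gen M α) hinj (exists_aeval_div M α) h
    exact h1.of_algEquiv (AlgEquiv.refl : M⟮α⟯ ≃ₐ[A] M⟮α⟯)

theorem kill_adjoin (hK : Kill A p K) (s : Finset E) :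
    Kill A p (IntermediateField.adjoin K (s : Set E)) := by
  classical
  induction s using Finset.induction_on with
  | empty =>
    refine kill_congr (M := (⊥ : IntermediateField K E)) (by simp) ?_
    exact hK.of_algEquiv ((IntermediateField.botEquiv K E).symm.restrictScalars A)
  | @insert a s _ ih =>
    refine kill_congr ?_ (kill_simple (IntermediateField.adjoin K (s : Set E)) a ih)
    rw [adjoin_adjoin_left, Finset.coe_insert, Set.insert_eq, Set.union_comm]

/-- Elements of a finitely generated domain over a complete local ring which are not `p`-th powers are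
detected by derivations. -/
theorem exists_derivation_ne_zero {R B : Type u} [CommRing R] [IsLocalRing R]
    [IsNoetherianRing R] [IsAdicComplete (maximalIdeal R) R] [CommRing B] [IsDomain B]
    [Algebra R B] [Algebra.FiniteType R B] [CharP B p] (f : B)
    (hf : ∀ x : FractionRing B, x ^ p ≠ algebraMap B (FractionRing B) f) :
    ∃ D : Derivation ℤ B B, D f ≠ 0 := by
  classical
  let P := RingHom.ker (algebraMap R B)
  haveI : P.IsPrime := RingHom.ker_isPrime _
  haveI : IsLocalRing (R ⧸ P) :=
    .of_surjective' (Ideal.Quotient.mk P) Ideal.Quotient.mk_surjective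
  haveI : IsAdicComplete (maximalIdeal (R ⧸ P)) (R ⧸ P) := by
    have h1 : IsAdicComplete (maximalIdeal R) (R ⧸ P) := Adic.isAdicComplete_of_finite (maximalIdeal R)
    rw [← IsLocalRing.map_maximalIdeal_of_surjective (Ideal.Quotient.mk P) Ideal.Quotient.mk_surjective,
      ← Ideal.Quotient.algebraMap_eq]
    exact (IsAdicComplete.map_algebraMap_iff _ _).2 h1
  obtain ⟨Λ, _, _, n, φ, hΛ, hinj, hfin, -, -, -⟩ := Nagata.Normalization.exists_normalization (R ⧸ P)
  let A₀ := MvPowerSeries (Fin n) Λ
  let ψ : R ⧸ P →+* B := RingHom.kerLift (algebraMap R B)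
  have hψ : Function.Injective ψ := RingHom.kerLift_injective _
  letI : Algebra A₀ B := (ψ.comp φ).toAlgebra
  have hinjB : Function.Injective (algebraMap A₀ B) := hψ.comp hinj
  haveI : IsDomain A₀ := hinjB.isDomain _
  haveI : CharP A₀ p := ((algebraMap A₀ B).charP_iff hinjB p).mpr inferInstance
  haveI hfld : IsDomain Λ ∧ IsField Λ := by
    rcases hΛ with hF | hC
    · exact ⟨hF.isDomain, hF⟩
    · exfalso
      haveI := EGA4Lib.charZero_of_isCohenRing Λ hC
      haveI : CharP Λ p := ((MvPowerSeries.C : Λ →+* A₀).charP_iff (fun a b hab => by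
        simpa using congrArg MvPowerSeries.constantCoeff hab) p).mpr inferInstance
      exact (Fact.out : p.Prime).ne_zero (CharP.eq Λ ‹CharP Λ p› (CharP.ofCharZero Λ))
  letI : Field Λ := hfld.2.toField
  haveI : CharP Λ p := ((MvPowerSeries.C : Λ →+* A₀).charP_iff (fun a b hab => by
    simpa using congrArg MvPowerSeries.constantCoeff hab) p).mpr inferInstance
  haveI : Algebra.FiniteType A₀ B := by
    rw [← RingHom.finiteType_algebraMap]
    refine RingHom.FiniteType.comp ?_ hfin.finiteType
    refine RingHom.FiniteType.of_comp_finiteType (f := Ideal.Quotient.mk P) ?_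
    exact (RingHom.finiteType_algebraMap (A := R) (B := B)).2 inferInstance
  let L := FractionRing B
  haveI : CharP L p := ((algebraMap B L).charP_iff (IsFractionRing.injective B L) p).mp inferInstance
  haveI : FaithfulSMul A₀ L := (faithfulSMul_iff_algebraMap_injective A₀ L).2 (by
    rw [IsScalarTower.algebraMap_eq A₀ B L]
    exact (IsFractionRing.injective B L).comp hinjB)
  let K₀ := FractionRing A₀
  letI : Algebra K₀ L := FractionRing.liftAlgebra A₀ L
  haveI : IsScalarTower A₀ K₀ L := FractionRing.isScalarTower_liftAlgebra A₀ L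
  haveI : CharP K₀ p := ((algebraMap A₀ K₀).charP_iff (IsFractionRing.injective A₀ K₀) p).mp inferInstance
  obtain ⟨s, hs⟩ := (Algebra.FiniteType.out : (⊤ : Subalgebra A₀ B).FG)
  let t : Finset L := s.image (algebraMap B L)
  have hkill := kill_adjoin (E := L) (kill_of_pker (EGA4Lib.DerKernel.pker_mvPowerSeries (k := Λ) p n K₀)) t
  have htop : IntermediateField.adjoin K₀ (t : Set L) = ⊤ := by
    rw [eq_top_iff]
    intro x _
    have hB : ∀ b : B, algebraMap B L b ∈ IntermediateField.adjoin K₀ (t : Set L) := fun b => by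
      have hb : b ∈ Algebra.adjoin A₀ (s : Set B) := hs ▸ Algebra.mem_top
      induction hb using Algebra.adjoin_induction with
      | mem y hy => exact subset_adjoin K₀ _ (Finset.mem_coe.2 (Finset.mem_image_of_mem _ hy))
      | algebraMap a =>
        rw [← IsScalarTower.algebraMap_apply A₀ B L, IsScalarTower.algebraMap_apply A₀ K₀ L]
        exact IntermediateField.algebraMap_mem _ _
      | add y z _ _ hy hz => rw [map_add]; exact add_mem hy hz
      | mul y z _ _ hy hz => rw [map_mul]; exact mul_mem hy hz
    obtain ⟨a, b, -, rfl⟩ := IsFractionRing.div_surjective (A := B) x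
    exact div_mem (hB a) (hB b)
  have hL : Kill A₀ p L :=
    (kill_congr htop hkill).of_algEquiv ((IntermediateField.topEquiv).restrictScalars A₀)
  obtain ⟨D, hD, hDf⟩ : ∃ D : Derivation ℤ L L, Bd A₀ D ∧ D (algebraMap B L f) ≠ 0 := by
    by_contra hcon
    push_neg at hcon
    obtain ⟨y, hy⟩ := hL _ hcon
    exact hf y hy
  -- clear denominators
  obtain ⟨T, ⟨gT, hgT⟩, hTD⟩ := hD
  obtain ⟨c, hc⟩ := IsLocalization.exist_integer_multiples_of_finset (nonZeroDivisors B)
    (gT ∪ t.image D)
  have hc0 : algebraMap B L (c : B) ≠ 0 :=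
    (map_ne_zero_iff _ (IsFractionRing.injective B L)).2 (nonZeroDivisors.ne_zero c.2)
  let D' : Derivation ℤ L L := algebraMap B L (c : B) • D
  have hint : ∀ b : B, ∃ b' : B, algebraMap B L b' = D' (algebraMap B L b) := fun b => by
    have hb : b ∈ Algebra.adjoin A₀ (s : Set B) := hs ▸ Algebra.mem_top
    induction hb using Algebra.adjoin_induction with
    | mem y hy =>
      obtain ⟨b', hb'⟩ := hc (D (algebraMap B L y))
        (Finset.mem_union_right _ (Finset.mem_image_of_mem D (Finset.mem_image_of_mem _ hy)))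
      refine ⟨b', hb'.trans ?_⟩
      simp [D', Algebra.smul_def]
    | algebraMap a =>
      rw [← IsScalarTower.algebraMap_apply A₀ B L]
      have h1 := hTD a
      rw [← hgT] at h1
      change ∃ b', algebraMap B L b' = algebraMap B L (c : B) * D (algebraMap A₀ L a)
      revert h1
      generalize D (algebraMap A₀ L a) = z
      intro h1
      induction h1 using Submodule.span_induction with
      | mem y hy =>
        obtain ⟨b', hb'⟩ := hc y (Finset.mem_union_left _ hy)
        exact ⟨b', by rw [hb']; simp [Algebra.smul_def]⟩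
      | zero => exact ⟨0, by simp⟩
      | add y z _ _ hy hz =>
        obtain ⟨u, hu⟩ := hy
        obtain ⟨v, hv⟩ := hz
        exact ⟨u + v, by rw [map_add, hu, hv, mul_add]⟩
      | smul r y _ hy =>
        obtain ⟨u, hu⟩ := hy
        exact ⟨algebraMap A₀ B r * u, by
          rw [map_mul, hu, ← IsScalarTower.algebraMap_apply, Algebra.smul_def]; ring⟩
    | add y z _ _ hy hz =>
      obtain ⟨u, hu⟩ := hy
      obtain ⟨v, hv⟩ := hz
      exact ⟨u + v, by rw [map_add, map_add, map_add, hu, hv]⟩
    | mul y z _ _ hy hz =>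
      obtain ⟨u, hu⟩ := hy
      obtain ⟨v, hv⟩ := hz
      exact ⟨y * v + z * u, by
        rw [map_mul (algebraMap B L) y z, Derivation.leibniz]
        simp [map_add, hu, hv]⟩
  choose δ hδ using hint
  have hBinj := IsFractionRing.injective B L
  let E : Derivation ℤ B B := Derivation.mk'
    (AddMonoidHom.toIntLinearMap
      { toFun := δ
        map_zero' := hBinj (by rw [hδ]; simp)
        map_add' := fun x y => hBinj (by rw [hδ, map_add, map_add, map_add, hδ, hδ]) })
    fun x y => hBinj (by
      show algebraMap B L (δ (x * y)) = algebraMap B L (x • δ y + y • δ x)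
      rw [hδ, map_mul, Derivation.leibniz, map_add, smul_eq_mul, smul_eq_mul, smul_eq_mul, smul_eq_mul,
        map_mul, map_mul, hδ, hδ])
  refine ⟨E, fun h0 => hDf ?_⟩
  have h1 : D' (algebraMap B L f) = 0 := by
    rw [← hδ]
    have : δ f = 0 := h0
    rw [this, map_zero]
  simpa [D', hc0] using h1

end Groth.Agent.DerBdd
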